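import Mathlib
import Cfsg.Agent.Lib.OrthSyl.Core

/-!
# The wreath subgroup `SL(2, F) ≀ S_n` of `Sp(2n, F)`
-/

set_option autoImplicit false
set_option linter.unusedSectionVars false

namespace Cfsg.Agent.Lib.SpSyl

open Matrix Equiv Cfsg.Agent.Lib.OrthSyl.Core
open scoped MatrixGroups

universe u

variable {F : Type u} [Field F] {n : ℕ}

/-- The block matrix of a tuple of `2 × 2` matrices. -/
def cMat (f : Fin n → SL(2, F)) : Matrix (Fin n ⊕ Fin n) (Fin n ⊕ Fin n) F :=
  fromBlocks (diagonal fun i => (f i).1 0 0) (diagonal fun i => (f i).1 0 1)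
    (diagonal fun i => (f i).1 1 0) (diagonal fun i => (f i).1 1 1)

theorem cMat_one : cMat (1 : Fin n → SL(2, F)) = 1 := by
  rw [← fromBlocks_one]
  simp [cMat]

theorem cMat_mul (f g : Fin n → SL(2, F)) : cMat (f * g) = cMat f * cMat g := by
  simp only [cMat, fromBlocks_multiply, diagonal_mul_diagonal, diagonal_add]
  congr 1 <;> (congr 1; funext i; simp [Matrix.mul_apply, Fin.sum_univ_two])

theorem diag_aux (α β γ : Fin n → F) :
    (diagonal α + (-diagonal β) * diagonal γ : Matrix (Fin n) (Fin n) F) =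
      diagonal fun i => α i - β i * γ i := by
  rw [neg_mul, diagonal_mul_diagonal, ← sub_eq_add_neg, diagonal_sub]

theorem cMat_mem (f : Fin n → SL(2, F)) : cMat f ∈ symplecticGroup (Fin n) F := by
  rw [SymplecticGroup.mem_iff, cMat, J, fromBlocks_transpose, fromBlocks_multiply, fromBlocks_multiply]
  simp only [diagonal_transpose, mul_zero, zero_add, add_zero, mul_one, mul_neg, diagonal_mul_diagonal,
    diag_aux]
  have h : ∀ i, (f i).1 0 0 * (f i).1 1 1 - (f i).1 0 1 * (f i).1 1 0 = 1 := by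
    intro i
    have := (f i).2
    rwa [Matrix.det_fin_two] at this
  congr 1
  · rw [← diagonal_zero]
    congr 1
    funext i
    ring
  · rw [← diagonal_one, diagonal_neg]
    congr 1
    funext i
    linear_combination -h i
  · rw [← diagonal_one]
    congr 1
    funext i
    linear_combination h i
  · rw [← diagonal_zero]
    congr 1
    funext i
    ring

/-- The permutation matrix. -/
def qMat (σ : Perm (Fin n)) : Matrix (Fin n) (Fin n) F := (σ⁻¹).permMatrix F

theorem qMat_apply (σ : Perm (Fin n)) (i j : Fin n) :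
    (qMat σ : Matrix (Fin n) (Fin n) F) i j = if σ⁻¹ i = j then 1 else 0 := by
  rw [qMat, Equiv.Perm.permMatrix, PEquiv.toMatrix_apply]
  simp

theorem qMat_mul (σ τ : Perm (Fin n)) :
    (qMat (σ * τ) : Matrix (Fin n) (Fin n) F) = qMat σ * qMat τ := by
  rw [qMat, qMat, qMat, _root_.mul_inv_rev, Matrix.permMatrix_mul]

theorem qMat_one : (qMat (1 : Perm (Fin n)) : Matrix (Fin n) (Fin n) F) = 1 := by
  rw [qMat, inv_one, Matrix.permMatrix_one]

theorem qMat_transpose (σ : Perm (Fin n)) :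
    (qMat σ : Matrix (Fin n) (Fin n) F)ᵀ = qMat σ⁻¹ := by
  rw [qMat, qMat, Matrix.transpose_permMatrix]

theorem qMat_mul_transpose (σ : Perm (Fin n)) :
    (qMat σ : Matrix (Fin n) (Fin n) F) * (qMat σ)ᵀ = 1 := by
  rw [qMat_transpose, ← qMat_mul, mul_inv_cancel, qMat_one]

theorem qMat_mul_diagonal (σ : Perm (Fin n)) (α : Fin n → F) :
    (qMat σ : Matrix (Fin n) (Fin n) F) * diagonal α = diagonal (fun i => α (σ⁻¹ i)) * qMat σ := by
  ext i j
  rw [mul_diagonal, diagonal_mul, qMat_apply]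
  by_cases h : σ⁻¹ i = j
  · rw [if_pos h, h]
    ring
  · rw [if_neg h]
    ring

/-- The permutation in `Sp`. -/
def pMat (σ : Perm (Fin n)) : Matrix (Fin n ⊕ Fin n) (Fin n ⊕ Fin n) F :=
  fromBlocks (qMat σ) 0 0 (qMat σ)

theorem pMat_one : (pMat (1 : Perm (Fin n)) : Matrix (Fin n ⊕ Fin n) (Fin n ⊕ Fin n) F) = 1 := by
  rw [pMat, qMat_one, fromBlocks_one]

theorem pMat_mul (σ τ : Perm (Fin n)) :
    (pMat (σ * τ) : Matrix (Fin n ⊕ Fin n) (Fin n ⊕ Fin n) F) = pMat σ * pMat τ := by
  simp only [pMat, fromBlocks_multiply, qMat_mul, mul_zero, zero_mul, add_zero, zero_add]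

theorem pMat_mem (σ : Perm (Fin n)) :
    (pMat σ : Matrix (Fin n ⊕ Fin n) (Fin n ⊕ Fin n) F) ∈ symplecticGroup (Fin n) F := by
  rw [SymplecticGroup.mem_iff, pMat, J, fromBlocks_transpose, fromBlocks_multiply, fromBlocks_multiply]
  simp [qMat_mul_transpose]

theorem pMat_mul_cMat (σ : Perm (Fin n)) (f : Fin n → SL(2, F)) :
    pMat σ * cMat f = cMat (fun i => f (σ⁻¹ i)) * pMat σ := by
  simp only [pMat, cMat, fromBlocks_multiply, zero_mul, mul_zero, add_zero, zero_add, qMat_mul_diagonal]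

/-- The base group homomorphism. -/
def cHom (n : ℕ) (F : Type u) [Field F] : (Fin n → SL(2, F)) × PUnit.{1} →* symplecticGroup (Fin n) F where
  toFun p := ⟨cMat p.1, cMat_mem p.1⟩
  map_one' := Subtype.ext cMat_one
  map_mul' a b := Subtype.ext (cMat_mul a.1 b.1)

/-- The permutation homomorphism. -/
def pHom (n : ℕ) (F : Type u) [Field F] : Perm (Fin n) →* symplecticGroup (Fin n) F where
  toFun σ := ⟨pMat σ, pMat_mem σ⟩
  map_one' := Subtype.ext pMat_one
  map_mul' a b := Subtype.ext (pMat_mul a b)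

/-- Restriction of the base to a subgroup. -/
def cHomOf (D : Subgroup SL(2, F)) : (Fin n → D) × PUnit.{1} →* symplecticGroup (Fin n) F :=
  (cHom n F).comp (MonoidHom.prodMap (MonoidHom.compLeft D.subtype (Fin n)) (MonoidHom.id _))

theorem isWreath_cHomOf (D : Subgroup SL(2, F)) : IsWreath (cHomOf (n := n) D) (pHom n F) := by
  intro σ m
  rw [mul_inv_eq_iff_eq_mul]
  apply Subtype.ext
  exact pMat_mul_cMat σ _

/-- The index of the matrix entries. -/
def ix (a : Fin n) : Fin 2 → Fin n ⊕ Fin n := ![Sum.inl a, Sum.inr a]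

/-- The matrix entries of the product. -/
theorem entry_mul (f : Fin n → SL(2, F)) (σ : Perm (Fin n)) (a b : Fin n) (r s : Fin 2) :
    (cMat f * pMat σ : Matrix (Fin n ⊕ Fin n) (Fin n ⊕ Fin n) F) (ix a r) (ix b s) =
      (f a).1 r s * (qMat σ) a b := by
  simp only [cMat, pMat, fromBlocks_multiply, mul_zero, zero_add, add_zero]
  fin_cases r <;> fin_cases s <;> simp [diagonal_mul, ix]

theorem injective_mul (D : Subgroup SL(2, F)) (T : Subgroup (Perm (Fin n))) :
    Function.Injective fun p : ((Fin n → D) × PUnit.{1}) × T =>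
      cHomOf (n := n) D p.1 * pHom n F p.2 := by
  rintro ⟨⟨f, ⟨⟩⟩, t⟩ ⟨⟨f', ⟨⟩⟩, t'⟩ h
  have h1 : cMat (fun i => (f i : SL(2, F))) * pMat (t : Perm (Fin n)) =
      cMat (fun i => (f' i : SL(2, F))) * pMat (t' : Perm (Fin n)) := congrArg Subtype.val h
  have h2 : ∀ (a b : Fin n) (r s : Fin 2), ((f a : SL(2, F))).1 r s * (qMat (t : Perm (Fin n))) a b =
      ((f' a : SL(2, F))).1 r s * (qMat (t' : Perm (Fin n))) a b := by
    intro a b r s
    have := entry_mul (fun i => (f i : SL(2, F))) (t : Perm (Fin n)) a b r s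
    rw [← this, h1, entry_mul]
  have hne : ∀ g : SL(2, F), ∃ r s : Fin 2, g.1 r s ≠ 0 := by
    intro g
    by_contra hcon
    push Not at hcon
    have := g.2
    rw [Matrix.det_fin_two, hcon 0 0, hcon 1 1, mul_zero, hcon 0 1, zero_mul, sub_zero] at this
    exact zero_ne_one this
  have ht : t = t' := by
    apply Subtype.ext
    apply inv_injective
    ext a
    obtain ⟨r, s, hrs⟩ := hne (f a)
    have h3 := h2 a ((t : Perm (Fin n))⁻¹ a) r s
    rw [qMat_apply, if_pos rfl, mul_one, qMat_apply] at h3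
    by_contra hcon
    rw [if_neg (fun h' => hcon (by rw [h']))] at h3
    rw [mul_zero] at h3
    exact hrs h3
  subst ht
  have hf : f = f' := by
    funext a
    apply Subtype.ext
    apply Subtype.ext
    ext r s
    have h3 := h2 a ((t : Perm (Fin n))⁻¹ a) r s
    rw [qMat_apply, if_pos rfl, mul_one, mul_one] at h3
    exact h3
  rw [hf]

end Cfsg.Agent.Lib.SpSyl
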